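import Cfsg.Agent.OddOrder.AppendixC.Config

/-!
BG appendix C: triples `t A t⁻¹ * B * t⁻¹ C t = 1` in `P`, and the proof that the set of `v ∈ U`
with `ψ u + ψ v = 2` for some `u ∈ U` is closed under inversion.
-/

set_option autoImplicit false
set_option linter.unusedSectionVars false

namespace Cfsg.Agent.OddOrder.AppendixC.Config

variable {G : Type*} [Group G] [Finite G] {F : Type*} [Field F] {p q : ℕ} [Fact p.Prime]
  [CharP F p] (S : Config G F p q)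

include S

theorem f_conj_sp {u : G} (hu : u ∈ S.U) (n : ZMod p) :
    S.f (u * S.sp n * u⁻¹) = S.ψ u * ι n := by
  rw [(S.hψ u hu).2 _ (S.sp_mem n), S.f_sp]

/-- A prime-field element normalizing `U` is trivial. -/
theorem eq_zero_of_sp_normalizer {k : ZMod p}
    (h : S.sp k ∈ Subgroup.normalizer (S.U : Set G)) : k = 0 := by
  by_contra hk
  obtain ⟨u, hu, hu1⟩ := S.exists_ne_one
  apply hu1
  have h1 : S.sp k * u * (S.sp k)⁻¹ * u⁻¹ = 1 := by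
    apply S.eq_one_of_mem_P_U
    · rw [show S.sp k * u * (S.sp k)⁻¹ * u⁻¹ = S.sp k * (u * (S.sp k)⁻¹ * u⁻¹) by group]
      exact S.P.mul_mem (S.sp_mem k) (S.conj_mem_P hu (S.P.inv_mem (S.sp_mem k)))
    · exact S.U.mul_mem ((Subgroup.mem_normalizer_iff.mp h u).mp hu) (S.U.inv_mem hu)
  have h2 : u * S.sp k * u⁻¹ = S.sp k := by
    have h1' := eq_of_mul_inv_eq_one (by rw [← h1] : S.sp k * u * (S.sp k)⁻¹ * u⁻¹ = 1)
    calc u * S.sp k * u⁻¹ = (S.sp k * u * (S.sp k)⁻¹) * S.sp k * u⁻¹ := by rw [h1']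
      _ = S.sp k := by group
  have h3 := congrArg S.f h2
  rw [S.f_conj_sp hu, S.f_sp] at h3
  refine S.hψinj hu S.U.one_mem (S.ψ_one.symm ▸ ?_)
  exact (mul_eq_right₀ ((map_ne_zero_iff _ ι_injective).mpr hk)).mp h3

/-- `e k = tp k * (sp k)⁻¹` in additive notation. -/
noncomputable def e (k : ZMod p) : S.V := S.W 0 - S.W k

theorem el_e (k : ZMod p) : S.el (S.e k) 0 = S.tp k * (S.sp k)⁻¹ := by
  rw [S.tp_eq_el, S.sp_eq_el, S.el_inv, S.el_mul]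
  simp [e]

theorem e_eq_zero {k : ZMod p} (h : S.e k = 0) : k = 0 := by
  apply S.eq_zero_of_sp_normalizer
  have h1 := S.el_e k
  rw [h, ← S.sp_eq_el, S.sp_zero] at h1
  rw [← eq_of_mul_inv_eq_one h1.symm]
  exact S.tp_mem_normalizer k

theorem eq_zero_of_e_fixed {k : ZMod p} (h : S.act 1 (S.e k) = S.e k) : k = 0 := by
  apply S.e_eq_zero
  apply S.eq_zero_of_nsmul
  have hn : ∀ n : ℕ, S.e ((n : ZMod p) * k) = n • S.e k := by
    intro n
    induction n with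
    | zero => simp [e]
    | succ n ih =>
      rw [succ_nsmul', ← S.act_fixed h k, ← map_nsmul, S.act_fixed h k, ← ih]
      simp only [e, map_sub, act_W, add_zero, Nat.cast_succ]
      rw [show ((n : ZMod p) + 1) * k = k + (n : ZMod p) * k by ring]
      abel
  rw [← hn, ZMod.natCast_self, zero_mul, e, sub_self]

theorem eq_zero_of_e_normalizes {k : ZMod p}
    (h : ∀ x ∈ S.P, S.el (S.e k) 0 * x * (S.el (S.e k) 0)⁻¹ ∈ S.P) : k = 0 := by
  apply S.eq_zero_of_e_fixed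
  have hmem : S.el (S.e k) 0 * S.sp 1 * (S.el (S.e k) 0)⁻¹ * (S.sp 1)⁻¹ ∈ S.P :=
    S.P.mul_mem (h _ (S.sp_mem 1)) (S.P.inv_mem (S.sp_mem 1))
  have heq : S.el (S.e k) 0 * S.sp 1 * (S.el (S.e k) 0)⁻¹ * (S.sp 1)⁻¹ =
      S.el (S.e k - S.act 1 (S.e k)) 0 := by
    simp only [S.sp_eq_el, S.el_inv, S.el_mul]
    congr 1
    · simp [map_neg, act_zero, sub_eq_add_neg]
    · ring
  rw [heq] at hmem
  have h1 : S.el (S.e k - S.act 1 (S.e k)) 0 = 1 := by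
    refine S.eq_one_of_mem_P_Q hmem ?_
    simp only [el, S.sp_zero, mul_one]
    exact SetLike.coe_mem _
  exact (sub_eq_zero.mp (S.el_eq_one h1).1).symm

/-- The values of the elements of `P` that `g` conjugates into `P`. -/
def values (g : G) : AddSubgroup F where
  carrier := {w | ∃ x ∈ S.P, S.f x = w ∧ g * x * g⁻¹ ∈ S.P}
  zero_mem' := ⟨1, S.P.one_mem, S.f_one, by simp [S.P.one_mem]⟩
  add_mem' := by
    rintro a b ⟨x, hx, rfl, hgx⟩ ⟨z, hz, rfl, hgz⟩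
    exact ⟨x * z, S.P.mul_mem hx hz, S.hfadd x hx z hz, by
      rw [show g * (x * z) * g⁻¹ = g * x * g⁻¹ * (g * z * g⁻¹) by group]
      exact S.P.mul_mem hgx hgz⟩
  neg_mem' := by
    rintro a ⟨x, hx, rfl, hgx⟩
    exact ⟨x⁻¹, S.P.inv_mem hx, S.f_inv hx, by
      rw [show g * x⁻¹ * g⁻¹ = (g * x * g⁻¹)⁻¹ by group]
      exact S.P.inv_mem hgx⟩

theorem conj_mem_of_values_top {g : G} (h : S.values g = ⊤) : ∀ x ∈ S.P, g * x * g⁻¹ ∈ S.P := by
  intro x hx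
  obtain ⟨z, hz, hzx, hgz⟩ : S.f x ∈ S.values g := by rw [h]; trivial
  rwa [← S.eq_of_f hz hx hzx]

theorem eq_one_of_α_one {x : G} (hx : x ∈ S.P) (h : S.α 1 x ∈ S.P) : x = 1 := by
  by_contra h1
  have hfx : S.f x ≠ 0 := fun h0 => h1 (S.eq_of_f hx S.P.one_mem (h0.trans S.f_one.symm))
  have htop := S.top_of_orbit (S.values (S.tp 1)) hfx fun u hu =>
    ⟨u * x * u⁻¹, S.conj_mem_P hu hx, (S.hψ u hu).2 x hx, by
      rw [← S.α_apply, map_mul, map_mul, map_inv]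
      exact S.conj_mem_P (S.α_mem hu) h⟩
  refine one_ne_zero (S.eq_zero_of_e_normalizes (k := (1 : ZMod p)) fun z hz => ?_)
  rw [S.el_e, show S.tp 1 * (S.sp 1)⁻¹ * z * (S.tp 1 * (S.sp 1)⁻¹)⁻¹
    = S.tp 1 * ((S.sp 1)⁻¹ * z * S.sp 1) * (S.tp 1)⁻¹ by group]
  exact S.conj_mem_of_values_top htop _
    (S.P.mul_mem (S.P.mul_mem (S.P.inv_mem (S.sp_mem 1)) hz) (S.sp_mem 1))

/-- The equation between three translations. -/
def Sol (A B C : G) : Prop :=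
  A ∈ S.P ∧ B ∈ S.P ∧ C ∈ S.P ∧ S.α 1 A * B * S.α (-1) C = 1

theorem Sol.unique {A B A' B' C : G} (h : S.Sol A B C) (h' : S.Sol A' B' C) :
    A = A' ∧ B = B' := by
  have h1 : S.α 1 A * B = S.α 1 A' * B' := mul_right_cancel (h.2.2.2.trans h'.2.2.2.symm)
  have h2 : S.α 1 (A'⁻¹ * A) = B' * B⁻¹ := by
    rw [map_mul, map_inv, eq_mul_inv_iff_mul_eq, mul_assoc, h1]; group
  have h3 : A'⁻¹ * A = 1 := S.eq_one_of_α_one (S.P.mul_mem (S.P.inv_mem h'.1) h.1)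
    (h2 ▸ S.P.mul_mem h'.2.1 (S.P.inv_mem h.2.1))
  have h4 : A = A' := (inv_mul_eq_one.mp h3).symm
  subst h4
  exact ⟨rfl, mul_left_cancel h1⟩

theorem Sol.conj {A B C z : G} (h : S.Sol A B C) (hz : z ∈ S.U) :
    S.Sol (z * A * z⁻¹) (S.α 1 z * B * (S.α 1 z)⁻¹) (S.α 2 z * C * (S.α 2 z)⁻¹) := by
  refine ⟨S.conj_mem_P hz h.1, S.conj_mem_P (S.α_mem hz) h.2.1,
    S.conj_mem_P (S.α_mem hz) h.2.2.1, ?_⟩
  have h1 : S.α (-1) (S.α 2 z) = S.α 1 z := by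
    rw [← S.α_add, show (-1 : ZMod p) + 2 = 1 by ring]
  simp only [map_mul, map_inv, h1]
  calc _ = S.α 1 z * (S.α 1 A * B * S.α (-1) C) * (S.α 1 z)⁻¹ := by group
    _ = 1 := by rw [h.2.2.2]; group

theorem identity₁ : S.α 3 (S.sp 1) = S.α 2 (S.sp 2) * S.α 1 (S.sp (-1)) := by
  rw [S.α_sp, S.α_sp, S.α_sp, S.el_mul]
  congr 1
  · simp only [map_sub, map_add, act_W]
    norm_num
    abel
  · ring

theorem identity₂ : S.α 3 (S.sp 1) = S.α 1 (S.sp 3) * S.sp (-2) := by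
  rw [S.α_sp, S.α_sp, S.sp_eq_el, S.el_mul]
  congr 1
  · simp only [map_zero, add_zero]
    norm_num
    abel
  · ring

theorem identity₃ : S.α 3 (S.sp (-2)) = S.sp 1 * S.α 2 (S.sp (-3)) := by
  rw [S.α_sp, S.α_sp, S.sp_eq_el, S.el_mul]
  congr 1
  · simp only [map_sub, map_add, act_W, zero_add]
    norm_num
    abel
  · ring

/-- The triple attached to a pair `u, v` with `ψ u + ψ v = 2`. -/
theorem exists_sol {u v : G} (hu : u ∈ S.U) (hv : v ∈ S.U) (h : S.ψ u + S.ψ v = 2) :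
    ∃ A B C, S.Sol A B C ∧ S.f A = -3 + 2 * S.ψ (S.α 1 u) ∧
      S.f B = -S.ψ (S.α 2 u) + 3 * S.ψ (S.α 2 v) ∧ S.f C = 1 - 2 * S.ψ (S.α 3 v) := by
  have hP := fun {x : G} (hx : x ∈ S.U) (n : ZMod p) => S.conj_mem_P hx (S.sp_mem n)
  refine ⟨S.sp (-3) * (S.α 1 u * S.sp 2 * (S.α 1 u)⁻¹),
    S.α 2 u * S.sp (-1) * (S.α 2 u)⁻¹ * (S.α 2 v * S.sp 3 * (S.α 2 v)⁻¹),
    S.α 3 v * S.sp (-2) * (S.α 3 v)⁻¹ * S.sp 1,
    ⟨S.P.mul_mem (S.sp_mem _) (hP (S.α_mem hu) _),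
      S.P.mul_mem (hP (S.α_mem hu) _) (hP (S.α_mem hv) _),
      S.P.mul_mem (hP (S.α_mem hv) _) (S.sp_mem _), ?_⟩, ?_, ?_, ?_⟩
  · apply (S.α 1).injective
    rw [map_mul, map_mul, map_one, ← S.α_add, ← S.α_add, add_neg_cancel, S.α_zero,
      show (1 : ZMod p) + 1 = 2 by norm_num]
    simp only [map_mul, map_inv, ← S.α_add]
    norm_num
    have key : u * S.sp 1 * u⁻¹ * (v * S.sp 1 * v⁻¹) = S.sp 2 := by
      refine S.eq_sp (S.P.mul_mem (hP hu _) (hP hv _)) ?_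
      rw [S.hfadd _ (hP hu _) _ (hP hv _), S.f_conj_sp hu, S.f_conj_sp hv, map_one, mul_one,
        mul_one, map_ofNat, h]
    have key2 : S.α 3 (u * S.sp 1 * u⁻¹ * (v * S.sp 1 * v⁻¹)) =
        (S.sp 1 * S.α 2 (S.sp (-3)))⁻¹ := by
      rw [key, ← S.identity₃, ← map_inv, ← S.sp_neg, neg_neg]
    simp only [map_mul, map_inv] at key2
    calc _ = S.α 2 (S.sp (-3)) * (S.α 3 u * (S.α 2 (S.sp 2) * S.α 1 (S.sp (-1))) * (S.α 3 u)⁻¹ *
        (S.α 3 v * (S.α 1 (S.sp 3) * S.sp (-2)) * (S.α 3 v)⁻¹)) * S.sp 1 := by group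
      _ = 1 := by rw [← S.identity₁, ← S.identity₂, key2]; group
  · rw [S.hfadd _ (S.sp_mem _) _ (hP (S.α_mem hu) _), S.f_sp, S.f_conj_sp (S.α_mem hu),
      map_neg, map_ofNat, map_ofNat, mul_comm]
  · rw [S.hfadd _ (hP (S.α_mem hu) _) _ (hP (S.α_mem hv) _), S.f_conj_sp (S.α_mem hu),
      S.f_conj_sp (S.α_mem hv), map_neg, map_one, map_ofNat]
    ring
  · rw [S.hfadd _ (hP (S.α_mem hv) _) _ (S.sp_mem _), S.f_conj_sp (S.α_mem hv), S.f_sp,
      map_neg, map_one, map_ofNat]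
    ring

theorem two_ne_zero_F : (2 : F) ≠ 0 := by
  intro h
  have h2 : ((2 : ℕ) : F) = 0 := by exact_mod_cast h
  have := Nat.le_of_dvd (by norm_num) ((CharP.cast_eq_zero_iff F p 2).mp h2)
  have := S.hp3
  omega

theorem pow_sub_one_eq {w : F} (hw : w ≠ 0) (h : w ^ p = w) : w ^ (p - 1) = 1 := by
  apply mul_left_cancel₀ hw
  rw [← pow_succ', mul_one, Nat.sub_add_cancel (Fact.out : p.Prime).one_le, h]

theorem eq_one_of_prime_field {w : F} (hw : w ^ Nat.card S.U = 1) (h : w ^ p = w) : w = 1 := by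
  have hw0 : w ≠ 0 := fun h0 => by simp [h0, zero_pow S.card_U_pos.ne'] at hw
  have h3 := pow_gcd_eq_one.mpr ⟨hw, S.pow_sub_one_eq hw0 h⟩
  rwa [S.hA, pow_one] at h3

theorem exists_decomp {w : F} (hw : w ≠ 0) :
    ∃ (l : ZMod p) (ρ : G), ρ ∈ S.U ∧ l ≠ 0 ∧ w = ι l * S.ψ ρ := by
  have hp3 := S.hp3
  have := S.finiteField
  obtain ⟨a, -, ha⟩ := Nat.exists_mul_mod_eq_one_of_coprime S.hA (by omega)
  set k := Nat.card S.U * a / (p - 1)
  have hk : Nat.card S.U * a = (p - 1) * k + 1 := by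
    conv_lhs => rw [← Nat.div_add_mod (Nat.card S.U * a) (p - 1), ha]
  have hcard : w ^ (Nat.card S.U * (p - 1)) = 1 := by
    let _ := Fintype.ofFinite F
    rw [S.hUcard, ← S.hF, Nat.card_eq_fintype_card]
    exact FiniteField.pow_card_sub_one_eq_one w hw
  have h1 : (w ^ (Nat.card S.U * a)) ^ p = w ^ (Nat.card S.U * a) := by
    rw [← pow_sub_one_mul (show p ≠ 0 by omega) (w ^ (Nat.card S.U * a)), ← pow_mul,
      show Nat.card S.U * a * (p - 1) = Nat.card S.U * (p - 1) * a by ring, pow_mul, hcard,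
      one_pow, one_mul]
  obtain ⟨l, hl⟩ := exists_ι (F := F) h1
  have h2 : (((w ^ (p - 1)) ^ k)⁻¹) ^ Nat.card S.U = 1 := by
    rw [inv_pow, ← pow_mul, ← pow_mul, show (p - 1) * (k * Nat.card S.U)
      = Nat.card S.U * (p - 1) * k by ring, pow_mul, hcard, one_pow, inv_one]
  obtain ⟨ρ, hρ, hψρ⟩ := S.exists_ψ h2
  refine ⟨l, ρ, hρ, ?_, ?_⟩
  · rintro rfl
    rw [map_zero] at hl
    exact pow_ne_zero _ hw hl.symm
  · rw [hl, hψρ, hk, pow_succ, pow_mul]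
    field_simp

/-- The normalized triple. -/
theorem exists_normalized {u v ρ : G} {l : ZMod p} (hu : u ∈ S.U) (hv : v ∈ S.U) (hρ : ρ ∈ S.U)
    (h : S.ψ u + S.ψ v = 2) (hl : 1 - 2 * S.ψ (S.α 3 v) = ι l * S.ψ ρ) :
    ∃ A B, S.Sol A B (S.sp l) ∧
      S.f A = S.ψ (S.α (-2) ρ⁻¹) * (-3 + 2 * S.ψ (S.α 1 u)) ∧
      S.f B = S.ψ (S.α (-1) ρ⁻¹) * (-S.ψ (S.α 2 u) + 3 * S.ψ (S.α 2 v)) := by
  obtain ⟨A, B, C, hsol, hA, hB, hC⟩ := S.exists_sol hu hv h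
  have hz : S.α (-2) ρ⁻¹ ∈ S.U := S.α_mem (S.U.inv_mem hρ)
  have h1 : S.α 1 (S.α (-2) ρ⁻¹) = S.α (-1) ρ⁻¹ := by
    rw [← S.α_add, show (1 : ZMod p) + -2 = -1 by ring]
  have h2 : S.α 2 (S.α (-2) ρ⁻¹) = ρ⁻¹ := by rw [← S.α_add, add_neg_cancel, S.α_zero]
  have hsol' := Sol.conj S hsol hz
  rw [h1, h2] at hsol'
  have hC' : ρ⁻¹ * C * ρ⁻¹⁻¹ = S.sp l := by
    refine S.eq_sp hsol'.2.2.1 ?_
    rw [(S.hψ _ (S.U.inv_mem hρ)).2 C hsol.2.2.1, hC, hl, S.ψ_inv hρ]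
    have := (S.hψ ρ hρ).1
    field_simp
  rw [hC'] at hsol'
  exact ⟨_, _, hsol', by rw [(S.hψ _ hz).2 A hsol.1, hA],
    by rw [(S.hψ _ (S.α_mem (S.U.inv_mem hρ))).2 B hsol.2.1, hB]⟩

/-- The normalized triple lies in the prime field. -/
theorem exists_prime_triple {u v : G} (hu : u ∈ S.U) (hv : v ∈ S.U) (h : S.ψ u + S.ψ v = 2) :
    ∃ (i j l : ZMod p) (ρ : G), ρ ∈ S.U ∧ l ≠ 0 ∧ 1 - 2 * S.ψ (S.α 3 v) = ι l * S.ψ ρ ∧
      S.Sol (S.sp i) (S.sp j) (S.sp l) := by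
  have hw : (1 : F) - 2 * S.ψ (S.α 3 v) ≠ 0 := by
    intro h0
    rw [sub_eq_zero] at h0
    have hb : S.ψ (S.α 3 v) = (2 : F)⁻¹ := eq_inv_of_mul_eq_one_right h0.symm
    have hb1 : S.ψ (S.α 3 v) = 1 := by
      refine S.eq_one_of_prime_field (S.ψ_pow_card (S.α_mem hv)) ?_
      rw [hb, inv_pow, ← frobenius_def, map_ofNat]
    rw [hb1] at h0
    exact one_ne_zero (α := F) (by linear_combination (-1 : F) * h0)
  obtain ⟨l, ρ, hρ, hl0, hl⟩ := S.exists_decomp hw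
  obtain ⟨A, B, hsol, hA, hB⟩ := S.exists_normalized hu hv hρ h hl
  have hfrob : ∀ x : F, x ^ p = frobenius F p x := fun x => rfl
  have h' : S.ψ (u ^ p) + S.ψ (v ^ p) = 2 := by
    rw [S.ψ_pow hu, S.ψ_pow hv, hfrob, hfrob, ← map_add, h, map_ofNat]
  have hl' : 1 - 2 * S.ψ (S.α 3 (v ^ p)) = ι l * S.ψ (ρ ^ p) := by
    rw [map_pow, S.ψ_pow (S.α_mem hv), S.ψ_pow hρ, ← ι_pow (F := F) l, ← mul_pow, ← hl]
    simp only [hfrob, map_sub, map_mul, map_one, map_ofNat]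
  obtain ⟨A', B', hsol', hA', hB'⟩ := S.exists_normalized (S.U.pow_mem hu p) (S.U.pow_mem hv p)
    (S.U.pow_mem hρ p) h' hl'
  obtain ⟨rfl, rfl⟩ := Sol.unique S hsol hsol'
  have hAp : S.f A ^ p = S.f A := by
    conv_rhs => rw [hA']
    rw [hA, ← inv_pow, map_pow, map_pow, S.ψ_pow (S.α_mem (S.U.inv_mem hρ)), S.ψ_pow (S.α_mem hu)]
    simp only [hfrob, map_mul, map_add, map_neg, map_ofNat]
  have hBp : S.f B ^ p = S.f B := by
    conv_rhs => rw [hB']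
    rw [hB, ← inv_pow, map_pow, map_pow, map_pow, S.ψ_pow (S.α_mem (S.U.inv_mem hρ)),
      S.ψ_pow (S.α_mem hu), S.ψ_pow (S.α_mem hv)]
    simp only [hfrob, map_mul, map_add, map_neg, map_ofNat]
  obtain ⟨i, hi⟩ := exists_ι (F := F) hAp
  obtain ⟨j, hj⟩ := exists_ι (F := F) hBp
  refine ⟨i, j, l, ρ, hρ, hl0, hl, ?_⟩
  rwa [S.eq_sp hsol.1 hi.symm, S.eq_sp hsol.2.1 hj.symm] at hsol

theorem pow_mul_mem {x w : G} (hx : x ∈ S.P) (hw : w ∈ S.U) (n : ℕ) :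
    (x * w) ^ n * (w ^ n)⁻¹ ∈ S.P := by
  induction n with
  | zero => simp [S.P.one_mem]
  | succ n ih =>
    rw [show (x * w) ^ (n + 1) * (w ^ (n + 1))⁻¹ =
      (x * w) ^ n * (w ^ n)⁻¹ * (w ^ n * x * (w ^ n)⁻¹) by rw [pow_succ, pow_succ]; group]
    exact S.P.mul_mem ih (S.conj_mem_P (S.U.pow_mem hw n) hx)

theorem mem_P_of_pow {x w : G} (hx : x ∈ S.P) (hw : w ∈ S.U) (h : (x * w) ^ p = 1) :
    x * w ∈ S.P := by
  have h1 := S.pow_mul_mem hx hw p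
  rw [h, one_mul] at h1
  have h2 := S.eq_one_of_mem_P_U (S.P.inv_mem_iff.mp h1) (S.U.pow_mem hw p)
  rwa [S.eq_one_of_pow_mem_U hw h2, mul_one]

/-- The relation among the `e k` forced by a triple from the prime field. -/
theorem e_relation {i j l : ZMod p} (h : S.Sol (S.sp i) (S.sp j) (S.sp l)) :
    S.e 1 = S.e (i + 1) + S.e (-l) := by
  have h1 := h.2.2.2
  rw [S.α_sp, S.α_sp, S.sp_eq_el, S.el_mul, S.el_mul] at h1
  obtain ⟨hx, hn⟩ := S.el_eq_one h1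
  have hj : j = -i - l := by linear_combination hn
  subst hj
  simp only [map_zero, add_zero, map_sub, map_add, act_W] at hx
  rw [show i + (-i - l) + -1 = -1 + -l by ring, show i + (-i - l) + (-1 + l) = -1 by ring,
    show i + (-i - l) + l = 0 by ring, show i + (-i - l) = -l by ring] at hx
  have hx' := congrArg (S.act 1) hx
  simp only [map_zero, map_sub, map_add, act_W, add_zero, add_neg_cancel,
    add_neg_cancel_left] at hx'
  set z := S.W 0 - S.W (i + 1) - S.W (-l) + S.W 1 with hz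
  have hfix : S.act 1 z = z := by
    rw [← sub_eq_zero, ← neg_eq_zero]
    simp only [hz, map_sub, map_add, act_W, add_zero]
    refine Eq.trans ?_ hx'
    rw [show (1 : ZMod p) + (i + 1) = 1 + (1 + i) by ring, show i + 1 = 1 + i by ring]
    abel
  have hp : p • z = 0 := by
    have hsum : ∑ m : ZMod p, S.act m z = p • z := by
      simp [S.act_fixed hfix]
    rw [← hsum]
    simp only [hz, map_sub, map_add, act_W, Finset.sum_add_distrib, Finset.sum_sub_distrib,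
      add_zero]
    have hshift : ∀ a : ZMod p, ∑ m : ZMod p, S.W (m + a) = ∑ m : ZMod p, S.W m := fun a =>
      Equiv.sum_comp (Equiv.addRight a) S.W
    simp only [hshift]
    abel
  have hz0 := S.eq_zero_of_nsmul hp
  rw [hz] at hz0
  simp only [e]
  rw [← sub_eq_zero, ← neg_eq_zero]
  refine Eq.trans ?_ hz0
  abel

theorem i_add_one_cases {i l : ZMod p} (h : S.e 1 = S.e (i + 1) + S.e (-l)) :
    i + 1 = 0 ∨ i + 1 = 1 := by
  generalize i + 1 = a at h ⊢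
  generalize -l = b at h
  by_contra hc
  rw [not_or] at hc
  apply hc.1
  apply S.eq_zero_of_e_normalizes
  apply S.conj_mem_of_values_top
  have hga : S.el (S.e a) 0 = (S.el (S.e b) 0)⁻¹ * S.el (S.e 1) 0 := by
    rw [S.el_inv, S.el_mul, h]
    simp [act_zero]
  set g := S.el (S.e a) 0 with hg
  -- the values `(1 - a) (1 - ψ u)` are attained
  have hmem : ∀ u ∈ S.U, (1 - ι a) * (1 - S.ψ u) ∈ S.values g := by
    intro u hu
    set x := S.sp 1 * (u * S.sp (a - 1) * u⁻¹) * (S.sp a)⁻¹ with hx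
    have hxP : x ∈ S.P := S.P.mul_mem (S.P.mul_mem (S.sp_mem 1)
      (S.conj_mem_P hu (S.sp_mem _))) (S.P.inv_mem (S.sp_mem a))
    refine ⟨x, hxP, ?_, ?_⟩
    · rw [hx, S.hfadd _ (S.P.mul_mem (S.sp_mem 1) (S.conj_mem_P hu (S.sp_mem _))) _
        (S.P.inv_mem (S.sp_mem a)), S.hfadd _ (S.sp_mem 1) _ (S.conj_mem_P hu (S.sp_mem _)),
        S.f_conj_sp hu, S.f_inv (S.sp_mem a), S.f_sp, S.f_sp, map_sub, map_one]
      ring
    · set w := S.α (-b) (S.α 1 u) with hw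
      set w' := S.α a u with hw'
      have hwU : w ∈ S.U := S.α_mem (S.α_mem hu)
      have heq : g * x * g⁻¹ = S.sp b * (w * (S.sp b)⁻¹ * w⁻¹) * (w * w'⁻¹) := by
        have hxx : x = (S.sp 1 * u * (S.sp 1)⁻¹) * (S.sp a * u * (S.sp a)⁻¹)⁻¹ := by
          rw [hx, show a - 1 = -1 + a by ring, S.sp_add, S.sp_neg]; group
        have hg1 : g * (S.sp 1 * u * (S.sp 1)⁻¹) * g⁻¹ = S.sp b * w * (S.sp b)⁻¹ := by
          rw [hga, S.el_e, S.el_e, hw, α_apply, α_apply, S.tp_neg]; group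
        have hg2 : g * (S.sp a * u * (S.sp a)⁻¹) * g⁻¹ = w' := by
          rw [hg, S.el_e, hw', α_apply]; group
        calc g * x * g⁻¹ = (g * (S.sp 1 * u * (S.sp 1)⁻¹) * g⁻¹) *
            (g * (S.sp a * u * (S.sp a)⁻¹) * g⁻¹)⁻¹ := by rw [hxx]; group
          _ = _ := by rw [hg1, hg2]; group
      rw [heq]
      refine S.mem_P_of_pow (S.P.mul_mem (S.sp_mem b) (S.conj_mem_P hwU (S.P.inv_mem
        (S.sp_mem b)))) (S.U.mul_mem hwU (S.U.inv_mem (S.α_mem hu))) ?_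
      rw [← heq, conj_pow, S.pow_p hxP]
      group
  obtain ⟨u, hu, hu1⟩ := S.exists_ne_one
  have hw0 : (1 - (ι a : F)) * (1 - S.ψ u) ≠ 0 := by
    refine mul_ne_zero (fun h0 => hc.2 (ι_injective (F := F) ?_)) (fun h0 => hu1 ?_)
    · rw [map_one]; exact (sub_eq_zero.mp h0).symm
    · exact S.hψinj hu S.U.one_mem (S.ψ_one.symm ▸ (sub_eq_zero.mp h0).symm)
  refine S.top_of_orbit _ hw0 fun r hr => ?_
  rw [show S.ψ r * ((1 - (ι a : F)) * (1 - S.ψ u)) =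
    (1 - ι a) * (1 - S.ψ (r * u)) - (1 - ι a) * (1 - S.ψ r) by rw [S.hψmul r hr u hu]; ring]
  exact sub_mem (hmem _ (S.U.mul_mem hr hu)) (hmem r hr)

theorem l_eq_neg_one {i j l : ZMod p} (h : S.Sol (S.sp i) (S.sp j) (S.sp l)) (hl : l ≠ 0) :
    l = -1 := by
  have he := S.e_relation h
  rcases S.i_add_one_cases he with ha | ha <;> rw [ha] at he
  · have h0 : S.e (-l - 1) = 0 := by
      have h1 : S.W 1 = S.W (-l) := by simpa [e] using he
      simp only [e]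
      have h2 := congrArg (S.act (-1)) h1
      rw [act_W, act_W, neg_add_cancel, show (-1 : ZMod p) + -l = -l - 1 by ring] at h2
      rw [h2, sub_self]
    linear_combination -(S.e_eq_zero h0)
  · exact absurd (neg_eq_zero.mp (S.e_eq_zero (left_eq_add.mp he))) hl

/-- Membership in the set of pairs. -/
def E (v : G) : Prop := v ∈ S.U ∧ ∃ u ∈ S.U, S.ψ u + S.ψ v = 2

theorem E_step {v : G} (hv : S.E v) : S.E (S.α 3 v)⁻¹ := by
  obtain ⟨hv, u, hu, h⟩ := hv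
  obtain ⟨i, j, l, ρ, hρ, hl0, hl, hsol⟩ := S.exists_prime_triple hu hv h
  rw [S.l_eq_neg_one hsol hl0, map_neg, map_one] at hl
  have hb := S.α_mem (n := 3) hv
  refine ⟨S.U.inv_mem hb, (S.α 3 v)⁻¹ * ρ, S.U.mul_mem (S.U.inv_mem hb) hρ, ?_⟩
  rw [S.hψmul _ (S.U.inv_mem hb) _ hρ, S.ψ_inv hb]
  have := (S.hψ _ hb).1
  field_simp
  linear_combination hl

/-- The set is closed under inversion. -/
theorem E_inv {v : G} (hv : S.E v) : S.E v⁻¹ := by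
  have key : ∀ n : ℕ, S.E (S.α (3 * n) v ^ ((-1 : ℤ) ^ n)) := by
    intro n
    induction n with
    | zero => simpa [S.α_zero] using hv
    | succ n ih =>
      have h1 := S.E_step ih
      rwa [map_zpow, ← S.α_add, ← zpow_neg, show (3 : ZMod p) + 3 * n = 3 * ((n + 1 : ℕ) : ZMod p) by
        push_cast; ring, show -((-1 : ℤ) ^ n) = (-1) ^ (n + 1) by ring] at h1
  have h := key p
  have hodd : Odd p := (Fact.out : p.Prime).odd_of_ne_two (by have := S.hp3; omega)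
  rwa [ZMod.natCast_self, mul_zero, S.α_zero, hodd.neg_one_pow, zpow_neg_one] at h

end Cfsg.Agent.OddOrder.AppendixC.Config
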