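import Mathlib

/-!
BG appendix C: the configuration `(P, U, Q, y)` over a field with `p ^ q` elements, and the
calculus of the elements `x * sp n` with `x ∈ Q` and `n` in the prime field.
-/

set_option autoImplicit false
set_option linter.unusedSectionVars false

namespace Cfsg.Agent.OddOrder.AppendixC

/-- The hypotheses of the final configuration, with `p` odd. -/
structure Config (G : Type*) [Group G] (F : Type*) [Field F] (p q : ℕ) where
  P : Subgroup G
  U : Subgroup G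
  Q : Subgroup G
  f : G → F
  ψ : G → F
  y : G
  hf : Set.BijOn f (P : Set G) Set.univ
  hfadd : ∀ x ∈ P, ∀ z ∈ P, f (x * z) = f x + f z
  hUP : U ≤ Subgroup.normalizer (P : Set G)
  hψ : ∀ u ∈ U, ψ u ≠ 0 ∧ ∀ x ∈ P, f (u * x * u⁻¹) = ψ u * f x
  hψmul : ∀ u ∈ U, ∀ v ∈ U, ψ (u * v) = ψ u * ψ v
  hψinj : Set.InjOn ψ (U : Set G)
  hUcard : Nat.card U * (p - 1) = p ^ q - 1
  hA : (Nat.card U).Coprime (p - 1)
  hF : Nat.card F = p ^ q
  hp3 : 3 ≤ p
  hq : 2 ≤ q
  hQ : IsMulCommutative Q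
  hQp : (Nat.card Q).Coprime p
  hP0Q : ∀ x ∈ P, f x ^ p = f x → x ∈ Subgroup.normalizer (Q : Set G)
  hy : y ∈ Q
  hP0U : ∀ x ∈ P, f x ^ p = f x → y * x * y⁻¹ ∈ Subgroup.normalizer (U : Set G)

namespace Config

variable {G : Type*} [Group G] [Finite G] {F : Type*} [Field F] {p q : ℕ} [Fact p.Prime]
  [CharP F p] (S : Config G F p q)

include S

theorem finiteField : Finite F :=
  Nat.finite_of_card_ne_zero (by rw [S.hF]; exact pow_ne_zero _ (Fact.out : p.Prime).ne_zero)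

theorem eq_of_f {x z : G} (hx : x ∈ S.P) (hz : z ∈ S.P) (h : S.f x = S.f z) : x = z :=
  S.hf.injOn hx hz h

theorem f_one : S.f 1 = 0 := by
  have h := S.hfadd 1 S.P.one_mem 1 S.P.one_mem
  rw [one_mul] at h
  exact left_eq_add.mp h

theorem f_inv {x : G} (hx : x ∈ S.P) : S.f x⁻¹ = -S.f x := by
  have h := S.hfadd x⁻¹ (S.P.inv_mem hx) x hx
  rw [inv_mul_cancel, S.f_one] at h
  exact eq_neg_of_add_eq_zero_left h.symm

theorem f_pow {x : G} (hx : x ∈ S.P) (n : ℕ) : S.f (x ^ n) = n * S.f x := by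
  induction n with
  | zero => simp [S.f_one]
  | succ n ih => rw [pow_succ, S.hfadd _ (S.P.pow_mem hx n) _ hx, ih]; push_cast; ring

theorem pow_p {x : G} (hx : x ∈ S.P) : x ^ p = 1 := by
  refine S.eq_of_f (S.P.pow_mem hx p) S.P.one_mem ?_
  rw [S.f_pow hx, S.f_one, CharP.cast_eq_zero, zero_mul]

theorem card_P : Nat.card S.P = p ^ q := by
  rw [← S.hF, ← Nat.card_univ (α := F), ← S.hf.image_eq,
    Nat.card_image_of_injOn S.hf.injOn]
  rfl

theorem conj_mem_P {u x : G} (hu : u ∈ S.U) (hx : x ∈ S.P) : u * x * u⁻¹ ∈ S.P :=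
  (Subgroup.mem_normalizer_iff.mp (S.hUP hu) x).mp hx

theorem ψ_one : S.ψ 1 = 1 := by
  have h := S.hψmul 1 S.U.one_mem 1 S.U.one_mem
  rw [one_mul] at h
  exact (mul_eq_left₀ (S.hψ 1 S.U.one_mem).1).mp h.symm

/-- `ψ` as a homomorphism on `U`. -/
def ψHom : S.U →* F where
  toFun u := S.ψ u
  map_one' := S.ψ_one
  map_mul' u v := S.hψmul u u.2 v v.2

theorem ψ_inv {u : G} (hu : u ∈ S.U) : S.ψ u⁻¹ = (S.ψ u)⁻¹ := by
  apply eq_inv_of_mul_eq_one_left
  rw [← S.hψmul _ (S.U.inv_mem hu) _ hu, inv_mul_cancel, S.ψ_one]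

theorem ψ_pow {u : G} (hu : u ∈ S.U) (n : ℕ) : S.ψ (u ^ n) = S.ψ u ^ n := by
  induction n with
  | zero => simp [S.ψ_one]
  | succ n ih => rw [pow_succ, S.hψmul _ (S.U.pow_mem hu n) _ hu, ih, pow_succ]

theorem U_comm {u v : G} (hu : u ∈ S.U) (hv : v ∈ S.U) : u * v = v * u :=
  S.hψinj (S.U.mul_mem hu hv) (S.U.mul_mem hv hu)
    (by rw [S.hψmul u hu v hv, S.hψmul v hv u hu, mul_comm])

theorem ψ_pow_card {u : G} (hu : u ∈ S.U) : S.ψ u ^ Nat.card S.U = 1 := by
  have h := congrArg S.ψHom (pow_card_eq_one' (x := (⟨u, hu⟩ : S.U)))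
  rw [map_pow, map_one] at h
  exact h

theorem card_U_pos : 0 < Nat.card S.U := Nat.card_pos

theorem exists_ψ {w : F} (hw : w ^ Nat.card S.U = 1) : ∃ u ∈ S.U, S.ψ u = w := by
  classical
  let R : Finset F := (Polynomial.nthRoots (Nat.card S.U) (1 : F)).toFinset
  have := Fintype.ofFinite S.U
  let I : Finset F := Finset.univ.image fun u : S.U => S.ψ u
  have hI : I.card = Nat.card S.U := by
    simp only [I]
    rw [Finset.card_image_of_injective _
      (fun (a b : S.U) h => Subtype.ext (S.hψinj a.2 b.2 h)),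
      Nat.card_eq_fintype_card, Finset.card_univ]
  have hsub : I ⊆ R := by
    intro x hx
    obtain ⟨u, -, rfl⟩ := Finset.mem_image.mp hx
    exact Multiset.mem_toFinset.mpr
      ((Polynomial.mem_nthRoots S.card_U_pos).mpr (S.ψ_pow_card u.2))
  have hRI : I = R := Finset.eq_of_subset_of_card_le hsub
    (((Multiset.toFinset_card_le _).trans (Polynomial.card_nthRoots _ _)).trans hI.ge)
  have hwI : w ∈ I := hRI ▸ Multiset.mem_toFinset.mpr ((Polynomial.mem_nthRoots S.card_U_pos).mpr hw)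
  obtain ⟨u, -, hu⟩ := Finset.mem_image.mp hwI
  exact ⟨u, u.2, hu⟩

theorem coprime_U_p : (Nat.card S.U).Coprime p := by
  refine ((Nat.Prime.coprime_iff_not_dvd (Fact.out : p.Prime)).mpr fun h => ?_).symm
  have h1 : p ∣ p ^ q - 1 := S.hUcard ▸ h.mul_right (p - 1)
  have h2 : p ∣ p ^ q := dvd_pow_self p (by have := S.hq; omega)
  have h4 : 1 ≤ p ^ q := Nat.one_le_pow _ _ (by have := S.hp3; omega)
  have h3 := Nat.dvd_sub h2 h1
  rw [Nat.sub_sub_self h4, Nat.dvd_one] at h3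
  have := S.hp3
  omega

theorem eq_one_of_pow_mem_U {u : G} (hu : u ∈ S.U) (h : u ^ p = 1) : u = 1 := by
  have h2 : u ^ Nat.card S.U = 1 := congrArg Subtype.val (pow_card_eq_one' (x := (⟨u, hu⟩ : S.U)))
  have h3 := pow_gcd_eq_one.mpr ⟨h2, h⟩
  rwa [S.coprime_U_p, pow_one] at h3

theorem eq_one_of_mem_P_U {x : G} (hx : x ∈ S.P) (hu : x ∈ S.U) : x = 1 :=
  S.eq_one_of_pow_mem_U hu (S.pow_p hx)

theorem eq_one_of_mem_P_Q {x : G} (hx : x ∈ S.P) (hu : x ∈ S.Q) : x = 1 := by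
  have h2 : x ^ Nat.card S.Q = 1 := congrArg Subtype.val (pow_card_eq_one' (x := (⟨x, hu⟩ : S.Q)))
  have h3 := pow_gcd_eq_one.mpr ⟨h2, S.pow_p hx⟩
  rwa [S.hQp, pow_one] at h3

theorem pow_card_U_gt : p ^ (q - 1) - 1 < Nat.card S.U := by
  by_contra h
  rw [not_lt] at h
  have h1 := Nat.mul_le_mul_right (p - 1) h
  rw [S.hUcard] at h1
  have h2 : p ^ q = p ^ (q - 1) * p := by
    conv_lhs => rw [show q = q - 1 + 1 by have := S.hq; omega, pow_succ]
  have h3 : 1 ≤ p ^ (q - 1) := Nat.one_le_pow _ _ (by have := S.hp3; omega)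
  have h4 : (p ^ (q - 1) - 1) * (p - 1) < p ^ q - 1 := by
    rw [h2, Nat.sub_mul, one_mul, Nat.mul_sub, mul_one]
    have h5 : p ^ (q - 1) * 1 ≤ p ^ (q - 1) * p :=
      Nat.mul_le_mul_left _ (by have := S.hp3; omega)
    have h6 : 1 * p ≤ p ^ (q - 1) * p := Nat.mul_le_mul_right _ h3
    have := S.hp3
    omega
  exact absurd (h1.trans_lt h4) (lt_irrefl _)

theorem exists_ne_one : ∃ u ∈ S.U, u ≠ 1 := by
  by_contra h
  push Not at h
  have h1 : Nat.card S.U = 1 := Nat.card_eq_one_iff_unique.mpr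
    ⟨⟨fun a b => Subtype.ext ((h _ a.2).trans (h _ b.2).symm)⟩, ⟨1⟩⟩
  have h2 := S.hUcard
  rw [h1, one_mul] at h2
  have h3 : p * p ≤ p ^ q := by rw [← sq]; exact Nat.pow_le_pow_right (by have := S.hp3; omega) S.hq
  have h4 : 3 * p ≤ p * p := Nat.mul_le_mul_right p S.hp3
  have := S.hp3
  omega

/-- An additive subgroup containing a whole `ψ(U)`-orbit of a nonzero element is everything. -/
theorem top_of_orbit (W : AddSubgroup F) {w0 : F} (hw0 : w0 ≠ 0)
    (h : ∀ u ∈ S.U, S.ψ u * w0 ∈ W) : W = ⊤ := by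
  have := S.finiteField
  classical
  obtain ⟨j, hj, hWj⟩ : ∃ j ≤ q, Nat.card W = p ^ j :=
    (Nat.dvd_prime_pow (Fact.out : p.Prime)).mp (S.hF ▸ W.card_addSubgroup_dvd_card)
  have hinj : Function.Injective
      (fun u : S.U => (⟨⟨S.ψ u * w0, h u u.2⟩, by
        simpa [Subtype.ext_iff] using mul_ne_zero (S.hψ u u.2).1 hw0⟩ : {w : W // w ≠ 0})) := by
    intro a b hab
    simp only [Subtype.ext_iff] at hab
    exact Subtype.ext (S.hψinj a.2 b.2 (mul_right_cancel₀ hw0 hab))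
  have h1 : Nat.card S.U + 1 ≤ p ^ j := by
    have h2 := Nat.card_le_card_of_injective _ hinj
    let _ := Fintype.ofFinite W
    rw [Nat.card_eq_fintype_card (α := {w : W // w ≠ 0}), Fintype.card_subtype_compl,
      Fintype.card_subtype_eq, ← Nat.card_eq_fintype_card, hWj] at h2
    have : 0 < p ^ j := Nat.pow_pos (Fact.out : p.Prime).pos
    omega
  rcases hj.lt_or_eq with hlt | rfl
  · have := Nat.pow_le_pow_right (Fact.out : p.Prime).pos (show j ≤ q - 1 by omega)
    have := S.pow_card_U_gt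
    omega
  · exact W.eq_top_of_card_eq (by rw [hWj, S.hF])

omit S in
/-- The inclusion of the prime field. -/
noncomputable def ι : ZMod p →+* F := ZMod.castHom (dvd_refl p) F

omit S in
theorem ι_injective : Function.Injective (ι : ZMod p → F) :=
  (ι : ZMod p →+* F).injective

omit S in
theorem ι_pow (n : ZMod p) : (ι n : F) ^ p = ι n := by rw [← map_pow, ZMod.pow_card]

omit S in
theorem exists_ι {w : F} (hw : w ^ p = w) : ∃ n : ZMod p, ι n = w := by
  have h := (Subfield.mem_bot_iff_pow_eq_self F p).mpr hw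
  rw [← ZMod.fieldRange_castHom_eq_bot p] at h
  exact RingHom.mem_fieldRange.mp h

/-- The element of `P` with value `n`. -/
noncomputable def sp (n : ZMod p) : G :=
  Classical.choose (S.hf.surjOn (Set.mem_univ (ι n : F)))

theorem sp_mem (n : ZMod p) : S.sp n ∈ S.P :=
  (Classical.choose_spec (S.hf.surjOn (Set.mem_univ (ι n : F)))).1

theorem f_sp (n : ZMod p) : S.f (S.sp n) = ι n :=
  (Classical.choose_spec (S.hf.surjOn (Set.mem_univ (ι n : F)))).2

theorem sp_add (n m : ZMod p) : S.sp (n + m) = S.sp n * S.sp m :=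
  S.eq_of_f (S.sp_mem _) (S.P.mul_mem (S.sp_mem _) (S.sp_mem _))
    (by rw [S.hfadd _ (S.sp_mem _) _ (S.sp_mem _), S.f_sp, S.f_sp, S.f_sp, map_add])

theorem sp_zero : S.sp 0 = 1 :=
  S.eq_of_f (S.sp_mem _) S.P.one_mem (by rw [S.f_sp, S.f_one, map_zero])

theorem sp_neg (n : ZMod p) : S.sp (-n) = (S.sp n)⁻¹ :=
  eq_inv_of_mul_eq_one_left (by rw [← S.sp_add, neg_add_cancel, S.sp_zero])

theorem sp_injective : Function.Injective S.sp := fun a b h =>
  ι_injective (F := F) (by rw [← S.f_sp, h, S.f_sp])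

theorem eq_sp {x : G} (hx : x ∈ S.P) {n : ZMod p} (h : S.f x = ι n) : x = S.sp n :=
  S.eq_of_f hx (S.sp_mem n) (h.trans (S.f_sp n).symm)

theorem sp_mem_normalizer (n : ZMod p) : S.sp n ∈ Subgroup.normalizer (S.Q : Set G) :=
  S.hP0Q _ (S.sp_mem n) (by rw [S.f_sp, ι_pow])

/-- `y * sp n * y⁻¹`, which normalizes `U`. -/
noncomputable def tp (n : ZMod p) : G := S.y * S.sp n * S.y⁻¹

theorem tp_mem_normalizer (n : ZMod p) : S.tp n ∈ Subgroup.normalizer (S.U : Set G) :=
  S.hP0U _ (S.sp_mem n) (by rw [S.f_sp, ι_pow])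

theorem tp_add (n m : ZMod p) : S.tp (n + m) = S.tp n * S.tp m := by
  rw [tp, tp, tp, S.sp_add]; group

theorem tp_zero : S.tp 0 = 1 := by rw [tp, S.sp_zero]; group

theorem tp_neg (n : ZMod p) : S.tp (-n) = (S.tp n)⁻¹ :=
  eq_inv_of_mul_eq_one_left (by rw [← S.tp_add, neg_add_cancel, S.tp_zero])

/-- Conjugation by `tp n`. -/
noncomputable def α (n : ZMod p) : G ≃* G := MulAut.conj (S.tp n)

theorem α_apply (n : ZMod p) (x : G) : S.α n x = S.tp n * x * (S.tp n)⁻¹ := rfl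

theorem α_add (n m : ZMod p) (x : G) : S.α (n + m) x = S.α n (S.α m x) := by
  simp only [α_apply, S.tp_add]; group

theorem α_zero (x : G) : S.α 0 x = x := by simp [α_apply, S.tp_zero]

theorem α_mem {n : ZMod p} {u : G} (hu : u ∈ S.U) : S.α n u ∈ S.U :=
  (Subgroup.mem_normalizer_iff.mp (S.tp_mem_normalizer n) u).mp hu

/-! ### The additive group `Q` -/

/-- `Q`, written additively. -/
abbrev V := Additive S.Q

instance : AddCommGroup (Additive S.Q) :=
  { (inferInstance : AddGroup (Additive S.Q)) with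
    add_comm := fun a b => by
      have := S.hQ
      exact congrArg Additive.ofMul (IsMulCommutative.is_comm.comm a.toMul b.toMul) }

/-- The element `x * sp n`. -/
noncomputable def el (x : S.V) (n : ZMod p) : G := (x.toMul : G) * S.sp n

/-- Conjugation by `sp n` on `Q`. -/
noncomputable def act (n : ZMod p) : S.V →+ S.V where
  toFun x := Additive.ofMul ⟨S.sp n * (x.toMul : G) * (S.sp n)⁻¹,
    (Subgroup.mem_normalizer_iff.mp (S.sp_mem_normalizer n) _).mp x.toMul.2⟩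
  map_zero' := Additive.toMul.injective (Subtype.ext (by simp))
  map_add' a b := Additive.toMul.injective (Subtype.ext (by simp [mul_assoc]))

theorem act_coe (n : ZMod p) (x : S.V) :
    ((S.act n x).toMul : G) = S.sp n * (x.toMul : G) * (S.sp n)⁻¹ := rfl

theorem act_act (n m : ZMod p) (x : S.V) : S.act n (S.act m x) = S.act (n + m) x :=
  Additive.toMul.injective (Subtype.ext (by simp only [act_coe, S.sp_add]; group))

theorem act_zero (x : S.V) : S.act 0 x = x :=
  Additive.toMul.injective (Subtype.ext (by simp [act_coe, S.sp_zero]))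

/-- The orbit of `y`. -/
noncomputable def W (n : ZMod p) : S.V := S.act n (Additive.ofMul ⟨S.y, S.hy⟩)

theorem act_W (n m : ZMod p) : S.act n (S.W m) = S.W (n + m) := S.act_act n m _

theorem el_mul (x x' : S.V) (n n' : ZMod p) :
    S.el x n * S.el x' n' = S.el (x + S.act n x') (n + n') := by
  simp only [el, S.sp_add, toMul_add, Subgroup.coe_mul, act_coe]
  group

theorem el_inv (x : S.V) (n : ZMod p) :
    (S.el x n)⁻¹ = S.el (-S.act (-n) x) (-n) := by
  simp only [el, toMul_neg, Subgroup.coe_inv, act_coe, S.sp_neg]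
  group

theorem sp_eq_el (n : ZMod p) : S.sp n = S.el 0 n := by simp [el]

theorem el_y : S.el (S.W 0) 0 = S.y := by simp [el, W, act_zero, S.sp_zero]

theorem el_eq_one {x : S.V} {n : ZMod p} (h : S.el x n = 1) : x = 0 ∧ n = 0 := by
  have h1 : S.sp n = ((x.toMul : G))⁻¹ := eq_inv_of_mul_eq_one_right h
  have h2 : S.sp n = 1 := S.eq_one_of_mem_P_Q (S.sp_mem n) (h1 ▸ S.Q.inv_mem x.toMul.2)
  refine ⟨?_, S.sp_injective (by rw [h2, S.sp_zero])⟩
  rw [h2] at h1
  exact Additive.toMul.injective (Subtype.ext (inv_eq_one.mp h1.symm))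

theorem tp_eq_el (n : ZMod p) : S.tp n = S.el (S.W 0 - S.W n) n := by
  rw [tp, ← S.el_y, S.sp_eq_el, S.el_inv, S.el_mul, S.el_mul]
  simp [map_neg, act_W, sub_eq_add_neg]

theorem α_sp (n m : ZMod p) :
    S.α n (S.sp m) = S.el (S.W 0 - S.W n + S.W (n + m) - S.W m) m := by
  rw [α_apply, S.tp_eq_el, S.sp_eq_el, S.el_inv, S.el_mul, S.el_mul]
  congr 1
  · simp only [map_sub, map_zero, act_W, add_zero, neg_add_cancel, neg_sub]
    rw [show n + m + -n = m by ring]
    abel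
  · ring

theorem eq_zero_of_nsmul {x : S.V} (h : p • x = 0) : x = 0 := by
  rw [← AddMonoid.addOrderOf_eq_one_iff]
  refine Nat.eq_one_of_dvd_coprimes S.hQp ?_ (addOrderOf_dvd_of_nsmul_eq_zero h)
  exact addOrderOf_dvd_natCard x

theorem act_fixed {x : S.V} (h : S.act 1 x = x) (m : ZMod p) : S.act m x = x := by
  obtain ⟨n, rfl⟩ := ZMod.natCast_zmod_surjective m
  induction n with
  | zero => rw [Nat.cast_zero, act_zero]
  | succ n ih => rw [Nat.cast_succ, ← S.act_act, h, ih]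

end Config

end Cfsg.Agent.OddOrder.AppendixC
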